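import Groth.Agent.Lib.SurfInt.NegDef
import Groth.Agent.Lib.SurfInt.Pencil
import Groth.Agent.Lib.SurfInt.ProjSurf
import Groth.Agent.Lib.SurfRR.MulSeq
import Groth.Agent.Lib.Curves.GlobalSections
import Groth.Agent.Lib.Curves.Degree

/-!
# Euler characteristics of unions of curves on a surface
-/

set_option autoImplicit false
set_option linter.style.haveILetI false
set_option linter.unusedSectionVars false
universe u

open CategoryTheory CategoryTheory.Limits AlgebraicGeometry TopologicalSpace Opposite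

namespace Groth.Agent.Lib.SurfUnion.Basic

open Groth.Agent.Lib Groth.Agent.Lib.Snapper
open Groth.Agent.Lib.Ideal.Prime (stalkIdeal stalkIdeal_eq)

/-- Sum over the ordered pairs inside a finite set. -/
def pairSum {n : ℕ} (G : Fin n → Fin n → ℤ) (s : Finset (Fin n)) : ℤ :=
  ∑ i ∈ s, ∑ j ∈ s, if i < j then G i j else 0

theorem pairSum_insert {n : ℕ} (G : Fin n → Fin n → ℤ) (hG : ∀ i j, G i j = G j i)
    {s : Finset (Fin n)} {a : Fin n} (ha : a ∉ s) :
    pairSum G (insert a s) = pairSum G s + ∑ i ∈ s, G i a := by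
  unfold pairSum
  simp only [Finset.sum_insert ha, lt_irrefl, if_false, zero_add, Finset.sum_add_distrib]
  have h : ∀ i ∈ s, (if a < i then G a i else 0) + (if i < a then G i a else 0) = G i a := by
    intro i hi
    rcases lt_trichotomy a i with h | h | h
    · rw [if_pos h, if_neg h.asymm, add_zero, hG]
    · exact absurd (h ▸ hi) ha
    · rw [if_neg h.asymm, if_pos h, zero_add]
  rw [← Finset.sum_congr rfl h, Finset.sum_add_distrib]
  ring

variable {X : Scheme.{u}}

theorem support_iInf_subset {ι : Type*} [Fintype ι] (C : ι → X.IdealSheafData) (y : X)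
    (hy : y ∈ ((⨅ i, C i).support : Set X)) : ∃ i, y ∈ ((C i).support : Set X) := by
  classical
  by_contra hc
  push Not at hc
  obtain ⟨U, hU, hyU, -⟩ := exists_isAffineOpen_mem_and_subset
    (show y ∈ (⊤ : X.Opens) from trivial)
  rw [SetLike.mem_coe, Ideal.Prime.mem_support_iff_le_prime _ ⟨U, hU⟩ hyU,
    Scheme.IdealSheafData.ideal_iInf, iInf_apply] at hy
  have hy' : Finset.univ.inf (fun i => (C i).ideal ⟨U, hU⟩) ≤
      (hU.primeIdealOf ⟨y, hyU⟩).asIdeal := by
    rwa [Finset.inf_univ_eq_iInf]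
  obtain ⟨i, -, hi⟩ := (_root_.Ideal.IsPrime.inf_le'
    (hU.primeIdealOf ⟨y, hyU⟩).isPrime).mp hy'
  exact hc i (by
    rw [SetLike.mem_coe, Ideal.Prime.mem_support_iff_le_prime _ ⟨U, hU⟩ hyU]; exact hi)

variable {k : Type u} [Field k] [X.Over (Spec (CommRingCat.of k))]
  [IsNoetherian X] [IsIntegral X] [IsProper (X ↘ Spec (CommRingCat.of k))]
  (hdim : topologicalKrullDim X = 2)
  (hreg : ∀ x : X, IsRegularLocalRing (X.presheaf.stalk x))

/-- The Euler characteristic of a quotient of `O_X`. -/
noncomputable abbrev qchi (k : Type u) [Field k] (X : Scheme.{u})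
    [X.Over (Spec (CommRingCat.of k))] (I : X.IdealSheafData) : ℤ :=
  Curv2.euler k X (_root_.ClSub.quotMod I)

/-- The intersection number of two divisors. -/
noncomputable abbrev inum (k : Type u) [Field k] (X : Scheme.{u})
    [X.Over (Spec (CommRingCat.of k))] (A C : X.IdealSheafData) : ℤ :=
  FGA.intNum k X 2 ![_root_.ClSub.idealMod A, _root_.ClSub.idealMod C] (Coh.structureModule X)

include k hdim hreg

/-- Coprime divisors: product is intersection. -/
theorem mul_eq_inf {C A : X.IdealSheafData} (hC : BlowUp.IsEffCartierIdeal C)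
    (hA : BlowUp.IsEffCartierIdeal A) (hfin : ((C ⊔ A).support : Set X).Finite) :
    C * A = C ⊓ A := by
  refine le_antisymm (fun U => ?_) (SurfInt.Pencil.le_of_stalkIdeal_le fun x a ha => ?_)
  · rw [Scheme.IdealSheafData.ideal_mul, Scheme.IdealSheafData.ideal_inf, Pi.mul_apply,
      Pi.inf_apply]
    exact _root_.Ideal.mul_le_inf
  obtain ⟨c, -, hcC, hcan⟩ := SurfInt.Transversal.exists_regular_eq
    (X ↘ Spec (CommRingCat.of k)) (SurfInt.Surface.forall_component hdim)
    (fun y => haveI := hreg y; JacCrit.FlatRegular.isCohenMacaulayLocalRing _) hC hA hfin x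
  have h1 := SurfInt.Seq.stalkIdeal_mono (inf_le_left : C ⊓ A ≤ C) x ha
  have h2 := SurfInt.Seq.stalkIdeal_mono (inf_le_right : C ⊓ A ≤ A) x ha
  rw [hcC, _root_.Ideal.mem_span_singleton'] at h1
  obtain ⟨b, rfl⟩ := h1
  rw [SurfInt.Mul.stalkIdeal_mul, hcC, mul_comm b c]
  exact _root_.Ideal.mul_mem_mul (_root_.Ideal.mem_span_singleton_self c)
    (hcan b (by rwa [mul_comm c b]))

omit hreg in
/-- `χ` of a sum of divisors. -/
theorem qchi_mul {C A : X.IdealSheafData} (hC : BlowUp.IsEffCartierIdeal C)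
    (hA : BlowUp.IsEffCartierIdeal A) :
    qchi k X (C * A) = qchi k X C + qchi k X A - inum k X A C := by
  have hfin := Finite.cohFinite k X
  have hd : topologicalKrullDim X ≤ ((2 : ℕ) : WithBot ℕ∞) := by exact_mod_cast hdim.le
  have hIC := SurfInt.Effective.isInvertible_idealMod hC
  obtain ⟨f, π, w, -, hS⟩ := SurfRR.MulSeq.exists_seq hC hA
  have h := SurfInt.Effective.chi_ses hfin hd hS rfl rfl rfl
    (Twist.isCoh_twist hIC (SurfInt.Effective.isCoh_quotMod A))
    (SurfInt.Effective.isCoh_quotMod _) (SurfInt.Effective.isCoh_quotMod C)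
  have h2 := SurfInt.Effective.intNum_ideal hfin hd
    (SurfInt.Effective.isInvertible_idealMod hA) hIC
  simp only [qchi, inum, Chi.euler_eq_eulerCharLE hd] at *
  linarith

/-- Meeting divisors have positive intersection number. -/
theorem inum_pos {C A : X.IdealSheafData} (hC : BlowUp.IsEffCartierIdeal C)
    (hA : BlowUp.IsEffCartierIdeal A) (hfs : ((C ⊔ A).support : Set X).Finite)
    (hne : ((C ⊔ A).support : Set X).Nonempty) : 1 ≤ inum k X A C := by
  have hfin := Finite.cohFinite k X
  have hd : topologicalKrullDim X ≤ ((2 : ℕ) : WithBot ℕ∞) := by exact_mod_cast hdim.le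
  rw [inum, IntNum.intNum_pair_comm, SurfInt.Effective.intNum_ideals_of_finite hfin hd
    (SurfInt.Surface.forall_component hdim)
    (fun y => haveI := hreg y; JacCrit.FlatRegular.isCohenMacaulayLocalRing _) hC hA hfs]
  suffices h : Module.finrank k (Coh.HH X (_root_.ClSub.quotMod (C ⊔ A)) 0) ≠ 0 by omega
  intro h0
  haveI := hfin _ (SurfInt.Effective.isCoh_quotMod (C ⊔ A)) 0
  haveI hs := Module.finrank_zero_iff.1 h0
  letI := SurfInt.Surface.overSub (k := k) (C ⊔ A)
  haveI := TensorMod.QCohInv.isQCoh_structureModule (C ⊔ A).subscheme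
  haveI : Subsingleton (Coh.HH (C ⊔ A).subscheme (Coh.structureModule (C ⊔ A).subscheme) 0) :=
    (ZarCoh.Linear.affineLinearEquiv (C ⊔ A).subschemeι (show (C ⊔ A).subschemeι ≫ (X ↘ Spec (CommRingCat.of k)) = (C ⊔ A).subscheme ↘ Spec (CommRingCat.of k) from rfl)
      (Coh.structureModule (C ⊔ A).subscheme) 0).symm.toEquiv.subsingleton
  obtain ⟨y, hy⟩ := hne
  rw [← (C ⊔ A).range_subschemeι] at hy
  obtain ⟨z, -⟩ := hy
  haveI : Nonempty (⊤ : (C ⊔ A).subscheme.Opens) := ⟨⟨z, trivial⟩⟩
  haveI : Subsingleton Γ((C ⊔ A).subscheme, ⊤) :=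
    (Curves.GlobalSections.h0Equiv (Coh.structureModule (C ⊔ A).subscheme)).symm.toEquiv.subsingleton
  exact false_of_nontrivial_of_subsingleton Γ((C ⊔ A).subscheme, ⊤)

omit hdim hreg in
/-- A curve has `χ(O) ≤ 1`. -/
theorem qchi_le_one [IsAlgClosed k] (C : X.IdealSheafData) [IsIntegral C.subscheme]
    (hCd : topologicalKrullDim (C.support : Set X) = 1) : qchi k X C ≤ 1 := by
  letI := SurfInt.Surface.overSub (k := k) C
  haveI : IsProper (C.subscheme ↘ Spec (CommRingCat.of k)) :=
    inferInstanceAs (IsProper (C.subschemeι ≫ (X ↘ Spec (CommRingCat.of k))))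
  rw [qchi, SurfInt.Surface.euler_quot C, Curves.Degree.euler_structureModule
    ((SurfInt.Surface.dim_subscheme C).trans hCd).le
    (Curves.GlobalSections.finrank_h0_structure k C.subscheme)]
  omega

variable {n : ℕ} (C : Fin n → X.IdealSheafData) (hCi : ∀ i, IsIntegral (C i).subscheme)
  (hCd : ∀ i, topologicalKrullDim ((C i).support : Set X) = 1)
  (hCinj : Function.Injective fun i => ((C i).support : Set X))

/-- The union of the curves indexed by a finite set. -/
noncomputable abbrev union {n : ℕ} (C : Fin n → X.IdealSheafData) (s : Finset (Fin n)) :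
    X.IdealSheafData := s.inf C

include hCi hCd hCinj

omit hdim hreg in
theorem not_subset (i j : Fin n) (h : i ≠ j) :
    ¬ ((C j).support : Set X) ⊆ ((C i).support : Set X) := by
  intro hsub
  haveI := hCi i
  haveI := hCi j
  refine h (hCinj (congrArg (fun K : X.IdealSheafData => (K.support : Set X))
    (SurfInt.Curve.eq_of_gen_eq (C i) (C j) ?_)))
  refine VarDim.Basic.eq_of_pdim_le (X ↘ Spec (CommRingCat.of k))
    (Ideal.Prime.gen_specializes (C i) (hsub (Ideal.Prime.gen_mem (C j)))) ?_
  rw [SurfInt.Curve.pdim_gen _ (C i) (hCd i), SurfInt.Curve.pdim_gen _ (C j) (hCd j)]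

omit hdim hreg hCi hCd hCinj in
theorem mem_support_union {s : Finset (Fin n)} {y : X}
    (hy : y ∈ ((union C s).support : Set X)) : ∃ i ∈ s, y ∈ ((C i).support : Set X) := by
  rw [union, Finset.inf_eq_iInf, iInf_subtype'] at hy
  obtain ⟨⟨i, hi⟩, h⟩ := support_iInf_subset _ y hy
  exact ⟨i, hi, h⟩

/-- The invariant of the induction. -/
theorem union_spec (s : Finset (Fin n)) (hs : s.Nonempty) :
    BlowUp.IsEffCartierIdeal (union C s) ∧
      qchi k X (union C s) = ∑ i ∈ s, qchi k X (C i) - pairSum (fun i j => inum k X (C i) (C j)) s ∧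
      ∀ M : X.Modules, PicF.IsInvertible M →
        FGA.intNum k X 2 ![_root_.ClSub.idealMod (union C s), M] (Coh.structureModule X) =
          ∑ i ∈ s, FGA.intNum k X 2 ![_root_.ClSub.idealMod (C i), M] (Coh.structureModule X) := by
  classical
  have hfin := Finite.cohFinite k X
  have hE : ∀ i, BlowUp.IsEffCartierIdeal (C i) := fun i =>
    haveI := hCi i
    SurfInt.NegDef.isEff hfin hdim hreg (C i) (hCd i)
  induction hs using Finset.Nonempty.cons_induction with
  | singleton a => simp [union, pairSum, hE a]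
  | cons a t ha ht ih =>
    rw [Finset.cons_eq_insert]
    obtain ⟨hA, hchi, hlin⟩ := ih
    haveI := hCi a
    have hnot : ¬ ((C a).support : Set X) ⊆ ((union C t).support : Set X) := by
      intro hsub
      obtain ⟨i, hi, hmem⟩ := mem_support_union (k := k) C (hsub (Ideal.Prime.gen_mem (C a)))
      exact not_subset (k := k) C hCi hCd hCinj i a (fun e => ha (e ▸ hi))
        fun y hy => (Ideal.Prime.gen_specializes (C a) hy).mem_closed (C i).support.isClosed hmem
    have hfs := SurfInt.Surface.finite_sup (X ↘ Spec (CommRingCat.of k)) (C a) (hCd a) _ hnot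
    have heq : union C (insert a t) = C a * union C t := by
      rw [mul_eq_inf (k := k) hdim hreg (hE a) hA hfs, union, Finset.inf_insert]
    refine ⟨?_, ?_, fun M hM => ?_⟩
    · rw [heq]; exact Groth.Agent.Lib.Ideal.EffCartier.isEffCartier_mul (hE a) hA
    · rw [heq, qchi_mul hdim (hE a) hA, hchi, Finset.sum_insert ha,
        pairSum_insert _ (fun i j => IntNum.intNum_pair_comm _ _ _) ha, inum,
        hlin _ (SurfInt.Effective.isInvertible_idealMod (hE a))]
      ring
    · rw [heq, SurfInt.NegDef.intNum_mul hfin hdim (hE a) hA hM, hlin M hM, Finset.sum_insert ha]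

/-- A connected union can be grown one meeting curve at a time. -/
theorem exists_set (hconn : _root_.IsConnected ((⨅ i, C i).support : Set X)) :
    (Finset.univ : Finset (Fin n)).Nonempty ∧
      (n : ℤ) - 1 ≤ pairSum (fun i j => inum k X (C i) (C j)) Finset.univ := by
  classical
  have hfin := Finite.cohFinite k X
  have hE : ∀ i, BlowUp.IsEffCartierIdeal (C i) := fun i =>
    haveI := hCi i
    SurfInt.NegDef.isEff hfin hdim hreg (C i) (hCd i)
  obtain ⟨y₀, hy₀⟩ := hconn.nonempty
  obtain ⟨i₀, -⟩ := support_iInf_subset C y₀ hy₀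
  refine ⟨⟨i₀, Finset.mem_univ _⟩, ?_⟩
  have hsub : ∀ i, ((C i).support : Set X) ⊆ ((⨅ j, C j).support : Set X) := fun i =>
    Scheme.IdealSheafData.support_antitone (iInf_le C i)
  have hgrow : ∀ m : ℕ, m < n → ∃ s : Finset (Fin n), s.card = m + 1 ∧
      (m : ℤ) ≤ pairSum (fun i j => inum k X (C i) (C j)) s := by
    intro m
    induction m with
    | zero => intro _; exact ⟨{i₀}, rfl, by simp [pairSum]⟩
    | succ m ih =>
      intro hm
      obtain ⟨s, hcard, hle⟩ := ih (by omega)
      have hsne : s.Nonempty := Finset.card_pos.mp (by omega)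
      let T₁ : Set X := ⋃ i ∈ s, ((C i).support : Set X)
      let T₂ : Set X := ⋃ i ∈ sᶜ, ((C i).support : Set X)
      have hc : sᶜ.Nonempty := Finset.card_pos.mp (by
        rw [Finset.card_compl, Fintype.card_fin]; omega)
      obtain ⟨i₁, hi₁⟩ := hsne
      obtain ⟨i₂, hi₂⟩ := hc
      haveI := hCi i₁
      haveI := hCi i₂
      obtain ⟨y, -, hy₁, hy₂⟩ := isPreconnected_closed_iff.mp hconn.isPreconnected T₁ T₂
        (Set.Finite.isClosed_biUnion s.finite_toSet fun i _ => (C i).support.isClosed)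
        (Set.Finite.isClosed_biUnion sᶜ.finite_toSet fun i _ => (C i).support.isClosed)
        (fun z hz => by
          obtain ⟨i, hi⟩ := support_iInf_subset C z hz
          by_cases his : i ∈ s
          · exact Or.inl (Set.mem_biUnion his hi)
          · exact Or.inr (Set.mem_biUnion (Finset.mem_compl.mpr his) hi))
        ⟨_, hsub i₁ (Ideal.Prime.gen_mem (C i₁)), Set.mem_biUnion hi₁ (Ideal.Prime.gen_mem (C i₁))⟩
        ⟨_, hsub i₂ (Ideal.Prime.gen_mem (C i₂)), Set.mem_biUnion hi₂ (Ideal.Prime.gen_mem (C i₂))⟩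
      simp only [T₁, T₂, Set.mem_iUnion] at hy₁ hy₂
      obtain ⟨i, hi, hyi⟩ := hy₁
      obtain ⟨j, hj, hyj⟩ := hy₂
      have hjs : j ∉ s := Finset.mem_compl.mp hj
      refine ⟨insert j s, by rw [Finset.card_insert_of_notMem hjs, hcard], ?_⟩
      rw [pairSum_insert _ (fun a b => IntNum.intNum_pair_comm _ _ _) hjs]
      haveI := hCi i
      haveI := hCi j
      have hnot : ¬ ((C j).support : Set X) ⊆ ((C i).support : Set X) :=
        not_subset (k := k) C hCi hCd hCinj i j (fun e => hjs (e ▸ hi))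
      have h1 : 1 ≤ inum k X (C i) (C j) := inum_pos hdim hreg (hE j) (hE i)
        (SurfInt.Surface.finite_sup (X ↘ Spec (CommRingCat.of k)) (C j) (hCd j) _ hnot)
        ⟨y, by rw [Scheme.IdealSheafData.support_sup]; exact ⟨hyj, hyi⟩⟩
      have h2 : inum k X (C i) (C j) ≤ ∑ a ∈ s, inum k X (C a) (C j) :=
        Finset.single_le_sum (f := fun a => inum k X (C a) (C j)) (fun a ha => by
          haveI := hCi a
          exact SurfInt.NegDef.intNum_curves_nonneg hfin hdim hreg (C a) (C j) (hCd a) (hCd j)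
            fun e => hjs ((hCinj (congrArg (fun K : X.IdealSheafData => (K.support : Set X)) e)) ▸ ha)) hi
      push_cast
      linarith
  have hn : 0 < n := i₀.pos
  obtain ⟨s, hcard, hle⟩ := hgrow (n - 1) (by omega)
  have hsu : s = Finset.univ := Finset.eq_univ_of_card s (by rw [hcard, Fintype.card_fin]; omega)
  rw [hsu] at hle
  omega

end Groth.Agent.Lib.SurfUnion.Basic
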